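import Cfsg.Agent.H843.IMC.Frame3_m3
import Cfsg.Agent.H603.SporElim
import Cfsg.Agent.S1680
import Cfsg.Agent.S1687
import Cfsg.Agent.S1689
import Cfsg.Agent.S1624
import Cfsg.Agent.Prune
set_option linter.all false
prune_inst 0x7f00000000000000000000000000000000000000000000000000000000000000000000000000000000000000000000000000000000000000000000000000000000000000000000000000000000000000003fffffffffffffffffffffffffffbeffbdffffffff
open scoped Cfsg.Agent.FastGrp

/-!
# Degrees from rank 3 actions: `Suz`, `Fi₂₂`, `Fi₂₃`, `J₂`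
-/

set_option autoImplicit false

namespace Cfsg.Agent.H672.SporIM

open Cfsg Cfsg.Agent.H690.Spor.RankThree

universe u

theorem degrees_of_index {G : Type*} [Group G] [Finite G] (H : Subgroup G) {k l : ℕ} (hi : H.index = 1 + k + l)
    (ho : ∃ q₁ q₂ : G ⧸ H, (MulAction.orbit H q₁).ncard = k ∧ (MulAction.orbit H q₂).ncard = l)
    (hk : 1 < k) (hl : 1 < l) (hkl : k ≠ l) {n s P : ℕ} (hn : Nat.card G = n) (hs : k + l = s)
    (hP : (1 + k + l) * k * l = P) (L : List (ℕ × ℕ)) (Q : List ℕ) (hL : ∀ x ∈ L, x.1.Prime) (hQ : ∀ x ∈ Q, x.Prime)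
    (hQn : Q.Nodup)
    (hPM : P = (L.map fun x => x.1 ^ x.2).prod * (L.map fun x => x.1 ^ x.2).prod * Q.prod)
    (hodd : Odd s ∨ ¬ s / 2 ∣ n) (sols : List (ℕ × ℕ))
    (hchk : (divList L).all (chkD s P n sols) = true) :
    ∃ x ∈ sols, HasDeg G x.1 ∧ HasDeg G x.2 := by
  obtain ⟨q₁, q₂, h1, h2⟩ := ho
  obtain ⟨R, hR⟩ := R3.of_index H hi h1 h2 hk hl hkl
  exact degrees_of_R3 hR hn hs hP L Q hL hQ hQn hPM hodd sols hchk

theorem suz {K : Type u} [Group K] (h : Spor.IsoSuz K) : HasDeg K 1001 ∧ HasDeg K 780 := by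
  have hc := Cfsg.Agent.NotCT.Orders.suz (K := Spor.Suz) ⟨MulEquiv.refl _⟩
  have : Finite Spor.Suz := Nat.finite_of_card_ne_zero (by rw [hc]; norm_num)
  obtain ⟨e⟩ := h
  obtain ⟨h1, h2⟩ := Cfsg.Agent.S1680.result
  obtain ⟨x, hx, hd⟩ := degrees_of_index _ (k := 416) (l := 1365) h1 h2 (by norm_num) (by norm_num) (by norm_num)
    hc rfl (P := 1011890880) (by norm_num) [(2, 3), (3, 2), (13, 1)] [3, 5, 7, 11] (by simp only [List.forall_mem_cons]; norm_num)
    (by simp only [List.forall_mem_cons]; norm_num) (by decide) (by norm_num) (Or.inl (by decide)) [(1001, 780)]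
    (by decide +kernel)
  rw [List.mem_singleton] at hx
  subst hx
  exact ⟨hd.1.of_equiv e, hd.2.of_equiv e⟩

theorem fi22 {K : Type u} [Group K] (h : Spor.IsoFi22 K) : (HasDeg K 3080 ∧ HasDeg K 429) ∨ (HasDeg K 2079 ∧ HasDeg K 1430) := by
  have hc := Cfsg.Agent.NotCT.Orders.fi22 (K := Spor.Fi22) ⟨MulEquiv.refl _⟩
  have : Finite Spor.Fi22 := Nat.finite_of_card_ne_zero (by rw [hc]; norm_num)
  obtain ⟨e⟩ := h
  obtain ⟨h1, h2⟩ := Cfsg.Agent.S1687.result
  obtain ⟨x, hx, hd⟩ := degrees_of_index _ (k := 693) (l := 2816) h1 h2 (by norm_num) (by norm_num) (by norm_num)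
    hc rfl (P := 6849722880) (by norm_num) [(2, 4), (3, 2), (11, 1)] [2, 3, 5, 7, 13] (by simp only [List.forall_mem_cons]; norm_num)
    (by simp only [List.forall_mem_cons]; norm_num) (by decide) (by norm_num) (Or.inl (by decide)) [(3080, 429), (2079, 1430)]
    (by decide +kernel)
  simp only [List.mem_cons, List.not_mem_nil, or_false] at hx
  rcases hx with rfl | rfl
  · exact Or.inl ⟨hd.1.of_equiv e, hd.2.of_equiv e⟩
  · exact Or.inr ⟨hd.1.of_equiv e, hd.2.of_equiv e⟩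

theorem fi23 {K : Type u} [Group K] (h : Spor.IsoFi23 K) : HasDeg K 30888 ∧ HasDeg K 782 := by
  have hc := Cfsg.Agent.NotCT.Orders.fi23 (K := Spor.Fi23) ⟨MulEquiv.refl _⟩
  have : Finite Spor.Fi23 := Nat.finite_of_card_ne_zero (by rw [hc]; norm_num)
  obtain ⟨e⟩ := h
  obtain ⟨h1, h2⟩ := Cfsg.Agent.S1689.result
  obtain ⟨x, hx, hd⟩ := degrees_of_index _ (k := 3510) (l := 28160) h1 h2 (by norm_num) (by norm_num) (by norm_num)
    hc rfl (P := 3130412313600) (by norm_num) [(2, 5), (3, 3), (5, 1)] [3, 11, 13, 17, 23] (by simp only [List.forall_mem_cons]; norm_num)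
    (by simp only [List.forall_mem_cons]; norm_num) (by decide) (by norm_num) (Or.inr (by norm_num)) [(30888, 782)]
    (by decide +kernel)
  rw [List.mem_singleton] at hx
  subst hx
  exact ⟨hd.1.of_equiv e, hd.2.of_equiv e⟩

theorem j2 {K : Type u} [Group K] (h : Spor.IsoJ2 K) : HasDeg K 63 ∧ HasDeg K 36 := by
  have hc := Cfsg.Agent.NotCT.Orders.j2 (K := Spor.J2) ⟨MulEquiv.refl _⟩
  have : Finite Spor.J2 := Nat.finite_of_card_ne_zero (by rw [hc]; norm_num)
  obtain ⟨e⟩ := h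
  obtain ⟨H, h1, -, h2⟩ := Cfsg.Agent.S1624.result
  obtain ⟨x, hx, hd⟩ := degrees_of_index _ (k := 36) (l := 63) h1 h2 (by norm_num) (by norm_num) (by norm_num)
    hc rfl (P := 226800) (by norm_num) [(2, 2), (3, 2), (5, 1)] [7] (by simp only [List.forall_mem_cons]; norm_num)
    (by simp only [List.forall_mem_cons]; norm_num) (by decide) (by norm_num) (Or.inl (by decide)) [(63, 36)]
    (by decide +kernel)
  rw [List.mem_singleton] at hx
  subst hx
  exact ⟨hd.1.of_equiv e, hd.2.of_equiv e⟩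

end Cfsg.Agent.H672.SporIM
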